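import Groth.Agent.CycLib.SchemeDim
import Mathlib.AlgebraicGeometry.Properties
import Mathlib.AlgebraicGeometry.Morphisms.FiniteType
import Mathlib.Topology.KrullDimension
import Mathlib.RingTheory.Ideal.MinimalPrime.Basic

/-!
The dimension inequality `dim O_{X,x} + trdeg κ(x)/κ(s) ≤ dim O_{S,s} + sup trdeg` for morphisms
locally of finite type over a locally Noetherian scheme, with no integrality assumption.
-/

set_option linter.style.haveILetI false

namespace Groth.Agent.DimIneq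

open AlgebraicGeometry CategoryTheory Groth.Agent.CycLib

universe u

section ring

variable {A B : Type u} [CommRing A] [CommRing B] [Algebra A B]

theorem trdeg_quot_congr {p p' : Ideal A} {q q' : Ideal B} [q.LiesOver p] [q'.LiesOver p']
    (h : q = q') : Algebra.trdeg (A ⧸ p) (B ⧸ q) = Algebra.trdeg (A ⧸ p') (B ⧸ q') := by
  subst h
  obtain rfl : p = p' := (Ideal.over_def q p).trans (Ideal.over_def q p').symm
  rfl

theorem height_add_le [IsNoetherianRing A] [Algebra.FiniteType A B] (p : Ideal A) [p.IsPrime]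
    (q : Ideal B) [q.IsPrime] [q.LiesOver p] (E : ℕ)
    (hE : ∀ P ∈ minimalPrimes B, P ≤ q → Algebra.trdeg (A ⧸ P.under A) (B ⧸ P) ≤ E) :
    ∃ n : ℕ, Algebra.trdeg (A ⧸ p) (B ⧸ q) = n ∧ q.height + n ≤ p.height + E := by
  haveI : IsNoetherianRing B := Algebra.FiniteType.isNoetherianRing A B
  obtain ⟨s, hsl, hslen⟩ := q.exists_ltSeries_length_eq_height
  obtain ⟨P, hP, hPle⟩ := Ideal.exists_minimalPrimes_le (I := (⊥ : Ideal B)) (J := s.head.asIdeal) bot_le
  haveI : P.IsPrime := hP.1.1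
  have hPi : ∀ i, P ≤ (s i).asIdeal := fun i => hPle.trans (s.head_le i)
  have hPq : P ≤ q := by
    have h := hPle.trans s.head_le_last
    rwa [hsl] at h
  have hT0 : Algebra.trdeg (A ⧸ P.under A) (B ⧸ P) ≤ E := hE P hP hPq
  let p0 : Ideal A := P.under A
  haveI : p0.IsPrime := Ideal.comap_isPrime _ _
  haveI : P.LiesOver p0 := ⟨rfl⟩
  let π := Ideal.Quotient.mk p0
  let ρ := Ideal.Quotient.mk P
  let qb : Ideal (B ⧸ P) := q.map ρ
  let pb : Ideal (A ⧸ p0) := p.map π
  have hpp : p0 ≤ p := by rw [Ideal.over_def q p]; exact Ideal.comap_mono hPq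
  haveI : pb.IsPrime := Ideal.map_isPrime_of_surjective Ideal.Quotient.mk_surjective
    (by rw [Ideal.mk_ker]; exact hpp)
  haveI : qb.IsPrime := Ideal.map_isPrime_of_surjective Ideal.Quotient.mk_surjective
    (by rw [Ideal.mk_ker]; exact hPq)
  have hpc : pb.comap π = p := by
    rw [Ideal.comap_map_of_surjective _ Ideal.Quotient.mk_surjective, ← RingHom.ker_eq_comap_bot,
      Ideal.mk_ker, sup_eq_left.2 hpp]
  have hqc : ∀ r : Ideal B, P ≤ r → (r.map ρ).comap ρ = r := fun r hr => by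
    rw [Ideal.comap_map_of_surjective _ Ideal.Quotient.mk_surjective, ← RingHom.ker_eq_comap_bot,
      Ideal.mk_ker, sup_eq_left.2 hr]
  haveI : qb.LiesOver pb := ⟨by
    apply Ideal.comap_injective_of_surjective π Ideal.Quotient.mk_surjective
    rw [hpc, Ideal.over_def q p, Ideal.under_def, Ideal.under_def, ← hqc q hPq,
      Ideal.comap_comap, Ideal.comap_comap]
    rfl⟩
  haveI : Algebra.FiniteType (A ⧸ p0) (B ⧸ P) :=
    Algebra.FiniteType.of_restrictScalars_finiteType A _ _
  obtain ⟨hq, hp, t, T, hhq, hhp, ht, hT, hle, -⟩ := height_add_trdeg pb qb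
  have c : Algebra.trdeg ((A ⧸ p0) ⧸ pb) ((B ⧸ P) ⧸ qb) = Algebra.trdeg (A ⧸ p) (B ⧸ q) :=
    trdeg_congr (DoubleQuot.quotQuotEquivQuotOfLE hpp) (DoubleQuot.quotQuotEquivQuotOfLE hPq)
      (fun x => by
        obtain ⟨y, rfl⟩ := Ideal.Quotient.mk_surjective x
        obtain ⟨a, rfl⟩ := Ideal.Quotient.mk_surjective y
        rfl)
  have hTE : T ≤ E := by rw [hT] at hT0; exact_mod_cast hT0
  have hqle : q.height ≤ qb.height := by
    rw [← hslen, (⟨qb, ‹_›⟩ : PrimeSpectrum (B ⧸ P)).height_eq_orderHeight]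
    let g : Fin (s.length + 1) → PrimeSpectrum (B ⧸ P) := fun i =>
      ⟨(s i).asIdeal.map ρ, Ideal.map_isPrime_of_surjective Ideal.Quotient.mk_surjective
        (by rw [Ideal.mk_ker]; exact hPi i)⟩
    let s' : LTSeries (PrimeSpectrum (B ⧸ P)) := LTSeries.mk s.length g fun i j hij => by
      refine lt_of_le_of_ne (Ideal.map_mono (s.monotone hij.le)) fun h => (s.strictMono hij).ne ?_
      apply PrimeSpectrum.ext
      rw [← hqc _ (hPi i), ← hqc _ (hPi j)]
      exact congr_arg (fun r : PrimeSpectrum (B ⧸ P) => r.asIdeal.comap ρ) h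
    refine Order.length_le_height (p := s') (le_of_eq ?_)
    apply PrimeSpectrum.ext
    show (s (Fin.last _)).asIdeal.map ρ = q.map ρ
    have hl : (s (Fin.last _)).asIdeal = q := congr_arg PrimeSpectrum.asIdeal hsl
    rw [hl]
  have hple : pb.height ≤ p.height := by
    rw [(⟨pb, ‹_›⟩ : PrimeSpectrum (A ⧸ p0)).height_eq_orderHeight,
      (⟨p, ‹_›⟩ : PrimeSpectrum A).height_eq_orderHeight]
    refine (Order.height_le_height_apply_of_strictMono (PrimeSpectrum.comap π) ?_ _).trans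
      (le_of_eq (congr_arg Order.height (PrimeSpectrum.ext hpc)))
    intro a b hab
    refine lt_of_le_of_ne (Ideal.comap_mono hab.le) fun h => hab.ne (PrimeSpectrum.ext ?_)
    exact Ideal.comap_injective_of_surjective π Ideal.Quotient.mk_surjective
      (congr_arg PrimeSpectrum.asIdeal h)
  refine ⟨t, c ▸ ht, ?_⟩
  calc q.height + t ≤ qb.height + t := add_le_add hqle le_rfl
    _ ≤ pb.height + E := by
        rw [hhq, hhp]; exact_mod_cast (le_trans hle (add_le_add le_rfl hTE))
    _ ≤ p.height + E := add_le_add hple le_rfl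

end ring

variable {X S : Scheme.{u}}

theorem ringKrullDim_stalk_eq_height {U : X.Opens} (hU : IsAffineOpen U) {x : X} (hx : x ∈ U) :
    ringKrullDim (X.presheaf.stalk x) = (hU.primeIdealOf ⟨x, hx⟩).asIdeal.height := by
  letI := TopCat.Presheaf.algebra_section_stalk X.presheaf (⟨x, hx⟩ : U)
  haveI := hU.isLocalization_stalk ⟨x, hx⟩
  exact IsLocalization.AtPrime.ringKrullDim_eq_height _ _

/-- Dimension inequality at a point. -/
theorem exists_trdeg_stalk_le [IsLocallyNoetherian S] (f : X ⟶ S) [LocallyOfFiniteType f] (x : X)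
    (E : ℕ)
    (hE : ∀ ξ : X, closure {ξ} ∈ irreducibleComponents ↥X → ξ ⤳ x →
      letI := (f.residueFieldMap ξ).hom.toAlgebra
      Algebra.trdeg (S.residueField (f.base ξ)) (X.residueField ξ) ≤ E) :
    ∃ n : ℕ, (letI := (f.residueFieldMap x).hom.toAlgebra
        Algebra.trdeg (S.residueField (f.base x)) (X.residueField x)) = n ∧
      ringKrullDim (X.presheaf.stalk x) + n ≤ ringKrullDim (S.presheaf.stalk (f.base x)) + E := by
  obtain ⟨V, hV, hxV, -⟩ := exists_isAffineOpen_mem_and_subset (x := f x) (U := (⊤ : S.Opens)) trivial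
  obtain ⟨U, hU, hxU, hUV⟩ := exists_isAffineOpen_mem_and_subset (x := x) (U := f ⁻¹ᵁ V) hxV
  haveI : IsNoetherianRing Γ(S, V) := IsLocallyNoetherian.component_noetherian ⟨V, hV⟩
  letI := (f.appLE V U hUV).hom.toAlgebra
  haveI : Algebra.FiniteType Γ(S, V) Γ(X, U) := f.finiteType_appLE hV hU hUV
  haveI := liesOver_primeIdealOf f hV hU hUV hxU
  have hkey : ∀ P ∈ minimalPrimes Γ(X, U), P ≤ (hU.primeIdealOf ⟨x, hxU⟩).asIdeal →
      Algebra.trdeg (Γ(S, V) ⧸ P.under Γ(S, V)) (Γ(X, U) ⧸ P) ≤ E := by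
    intro P hP hle
    let c : PrimeSpectrum Γ(X, U) := ⟨P, hP.1.1⟩
    have hcU : hU.fromSpec c ∈ U := by
      have h : hU.fromSpec c ∈ Set.range hU.fromSpec := ⟨c, rfl⟩
      rwa [hU.range_fromSpec] at h
    have hc : hU.primeIdealOf ⟨hU.fromSpec c, hcU⟩ = c :=
      hU.fromSpec.isOpenEmbedding.injective (hU.fromSpec_primeIdealOf _)
    have hsp : hU.fromSpec c ⤳ x := by
      have h := (primeIdealOf_le_iff hU c (hU.primeIdealOf ⟨x, hxU⟩)).1 hle
      rwa [hU.fromSpec_primeIdealOf] at h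
    have hcomp : closure {hU.fromSpec c} ∈ irreducibleComponents ↥X := by
      refine ⟨isIrreducible_singleton.closure, fun Z hZ hcZ => ?_⟩
      obtain ⟨y, hy⟩ := QuasiSober.sober hZ.closure isClosed_closure
      have hyc : y ⤳ hU.fromSpec c := hy.specializes (subset_closure (hcZ (subset_closure rfl)))
      obtain ⟨d, rfl⟩ := hyc.mem_open hU.fromSpec.isOpenEmbedding.isOpen_range ⟨c, rfl⟩
      have hdc : d.asIdeal ≤ P := (primeIdealOf_le_iff hU d c).2 hyc
      have hdc' : d = c :=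
        PrimeSpectrum.ext (le_antisymm hdc (hP.2 ⟨d.isPrime, bot_le⟩ hdc))
      rw [← hdc']
      exact hy.symm ▸ subset_closure
    haveI := liesOver_primeIdealOf f hV hU hUV hcU
    haveI : P.LiesOver (P.under Γ(S, V)) := ⟨rfl⟩
    rw [trdeg_quot_congr (p' := (hV.primeIdealOf ⟨f (hU.fromSpec c), hUV hcU⟩).asIdeal)
      (q' := (hU.primeIdealOf ⟨hU.fromSpec c, hcU⟩).asIdeal) (congr_arg PrimeSpectrum.asIdeal hc).symm,
      trdeg_residueField_eq f hV hU hUV hcU]
    exact hE _ hcomp hsp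
  obtain ⟨n, hn, hle⟩ := height_add_le (hV.primeIdealOf ⟨f x, hUV hxU⟩).asIdeal
    (hU.primeIdealOf ⟨x, hxU⟩).asIdeal E hkey
  refine ⟨n, (trdeg_residueField_eq f hV hU hUV hxU).symm.trans hn, ?_⟩
  rw [ringKrullDim_stalk_eq_height hU hxU, ringKrullDim_stalk_eq_height hV (hUV hxU)]
  exact_mod_cast hle

theorem topologicalKrullDim_eq_iSup_stalk (X : Scheme.{u}) :
    topologicalKrullDim ↥X = ⨆ x : X, ringKrullDim (X.presheaf.stalk x) := by
  rw [show topologicalKrullDim ↥X = Order.krullDim ↥X from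
      Order.krullDim_eq_of_orderIso irreducibleSetEquivPoints,
    Order.krullDim_eq_iSup_coheight]
  exact iSup_congr fun x => (ringKrullDim_stalk_eq_coheight x).symm

theorem topologicalKrullDim_le [IsLocallyNoetherian S] (f : X ⟶ S) [LocallyOfFiniteType f] (E : ℕ)
    (hE : ∀ ξ : X, closure {ξ} ∈ irreducibleComponents ↥X →
      letI := (f.residueFieldMap ξ).hom.toAlgebra
      Algebra.trdeg (S.residueField (f.base ξ)) (X.residueField ξ) ≤ E) :
    topologicalKrullDim ↥X ≤ topologicalKrullDim ↥S + E := by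
  rw [topologicalKrullDim_eq_iSup_stalk X]
  refine iSup_le fun x => ?_
  obtain ⟨n, -, hle⟩ := exists_trdeg_stalk_le f x E fun ξ h _ => hE ξ h
  refine le_trans (le_trans ?_ hle) (add_le_add ?_ le_rfl)
  · exact le_add_of_nonneg_right (Nat.cast_nonneg n)
  · rw [topologicalKrullDim_eq_iSup_stalk S]
    exact le_iSup (fun y : S => ringKrullDim (S.presheaf.stalk y)) (f.base x)

end Groth.Agent.DimIneq
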