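import Groth.Agent.DimIneq.Basic
import Groth.Agent.DimLift.Basic
import Groth.Agent.VarDim.Algebra
import Mathlib.AlgebraicGeometry.FunctionField
import Mathlib.AlgebraicGeometry.Morphisms.UnderlyingMap
import Mathlib.RingTheory.RingHom.FiniteType

/-!
For a dominant closed morphism of integral schemes, locally of finite type with generic relative
transcendence degree `n`, over a locally Noetherian base: `dim Y + n ≤ dim X`.
-/

set_option linter.style.haveILetI false

namespace Groth.Agent.DimIneq

open AlgebraicGeometry CategoryTheory Groth.Agent.CycLib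

universe u

theorem exists_prime_over_bot_height {A B : Type u} [CommRing A] [IsDomain A] [CommRing B]
    [IsDomain B] [Algebra A B] [FaithfulSMul A B] [Algebra.FiniteType A B] (n : ℕ)
    (hn : Algebra.trdeg A B = n) :
    ∃ q : Ideal B, q.IsPrime ∧ q.under A = ⊥ ∧ q.height = n := by
  let M : Submonoid B := Algebra.algebraMapSubmonoid B (nonZeroDivisors A)
  have hM : M ≤ nonZeroDivisors B := by
    rintro _ ⟨a, ha, rfl⟩
    exact mem_nonZeroDivisors_of_ne_zero
      ((map_ne_zero_iff _ (FaithfulSMul.algebraMap_injective A B)).2 (nonZeroDivisors.ne_zero ha))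
  let K := FractionRing A
  let L := Localization M
  haveI : IsDomain L := IsLocalization.isDomain_of_le_nonZeroDivisors L hM
  have hinj : Function.Injective (algebraMap B L) := IsLocalization.injective L hM
  haveI : FaithfulSMul B L := (faithfulSMul_iff_algebraMap_injective _ _).2 hinj
  haveI : FaithfulSMul A L := (faithfulSMul_iff_algebraMap_injective _ _).2 (by
    rw [IsScalarTower.algebraMap_eq A B L]
    exact hinj.comp (FaithfulSMul.algebraMap_injective A B))
  haveI : FaithfulSMul K L := (faithfulSMul_iff_algebraMap_injective _ _).2 (algebraMap K L).injective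
  haveI : Algebra.IsAlgebraic A K := IsLocalization.isAlgebraic K (nonZeroDivisors _)
  haveI : Algebra.IsAlgebraic B L := IsLocalization.isAlgebraic L M
  haveI : Algebra.FiniteType K L := by
    rw [← RingHom.finiteType_algebraMap]
    have h : IsLocalization ((nonZeroDivisors A).map (algebraMap A B)) L := Localization.isLocalization
    exact RingHom.finiteType_localizationPreserves (algebraMap A B) (nonZeroDivisors A) K L
      (RingHom.finiteType_algebraMap.2 inferInstance)
  have htr : Algebra.trdeg K L = n := by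
    rw [← hn]
    calc Algebra.trdeg K L = Algebra.trdeg A L := by
          rw [← trdeg_add_eq A K (A := L), trdeg_eq_zero (R := A) (A := K), zero_add]
      _ = _ := by
          rw [← trdeg_add_eq A B (A := L), trdeg_eq_zero (R := B) (A := L), add_zero]
  obtain ⟨m', -, hm', hmax⟩ := VarDim.exists_ringKrullDim_eq_trdeg K L
  obtain rfl : m' = n := Nat.cast_injective (R := Cardinal.{u}) (hm'.symm.trans htr)
  obtain ⟨m, hm⟩ := Ideal.exists_maximal L
  refine ⟨m.under B, inferInstance, ?_, (IsLocalization.height_under M m).trans (hmax m hm)⟩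
  rw [eq_bot_iff]
  intro a ha
  rw [Submodule.mem_bot]
  by_contra hne
  refine hm.ne_top (Ideal.eq_top_of_isUnit_mem _ ha ?_)
  exact IsLocalization.map_units L (⟨algebraMap A B a, a, mem_nonZeroDivisors_of_ne_zero hne, rfl⟩ : M)

variable {X Y : Scheme.{u}} [IsIntegral X] [IsIntegral Y] (f : X ⟶ Y)

theorem base_genericPoint [IsDominant f] : f.base (genericPoint ↥X) = genericPoint ↥Y := by
  refine (IsGenericPoint.eq ?_ (genericPoint_spec Y))
  have h := (genericPoint_spec X).image f.continuous
  rwa [Set.image_univ, f.denseRange.closure_range] at h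

theorem primeIdealOf_genericPoint_asIdeal {U : X.Opens} (hU : IsAffineOpen U)
    (hx : genericPoint ↥X ∈ U) :
    (hU.primeIdealOf ⟨genericPoint ↥X, hx⟩).asIdeal = ⊥ := by
  haveI : Nonempty U := ⟨⟨_, hx⟩⟩
  rw [hU.primeIdealOf_genericPoint, genericPoint_eq_bot_of_affine]
  rfl

/-- A point of the generic fibre whose local ring has dimension `n`. -/
theorem exists_stalk_dim_eq [IsDominant f] [LocallyOfFiniteType f] (n : ℕ)
    (hn : letI := (f.residueFieldMap (genericPoint ↥X)).hom.toAlgebra
      Algebra.trdeg (Y.residueField (f.base (genericPoint ↥X))) (X.residueField (genericPoint ↥X)) = n) :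
    ∃ x : X, f.base x = genericPoint ↥Y ∧ ringKrullDim (X.presheaf.stalk x) = n := by
  obtain ⟨V, hV, hxV, -⟩ := exists_isAffineOpen_mem_and_subset
    (x := f (genericPoint ↥X)) (U := (⊤ : Y.Opens)) trivial
  obtain ⟨U, hU, hxU, hUV⟩ := exists_isAffineOpen_mem_and_subset
    (x := genericPoint ↥X) (U := f ⁻¹ᵁ V) hxV
  haveI : Nonempty U := ⟨⟨_, hxU⟩⟩
  haveI : Nonempty V := ⟨⟨_, hxV⟩⟩
  letI := (f.appLE V U hUV).hom.toAlgebra
  haveI : Algebra.FiniteType Γ(Y, V) Γ(X, U) := f.finiteType_appLE hV hU hUV
  haveI := liesOver_primeIdealOf f hV hU hUV hxU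
  have hq := primeIdealOf_genericPoint_asIdeal hU hxU
  have hg : genericPoint ↥Y ∈ V := base_genericPoint f ▸ hxV
  have hp : (hV.primeIdealOf ⟨f (genericPoint ↥X), hUV hxU⟩).asIdeal = ⊥ := by
    rw [show (⟨f (genericPoint ↥X), hUV hxU⟩ : V) = ⟨genericPoint ↥Y, hg⟩ from
      Subtype.ext (base_genericPoint f)]
    exact primeIdealOf_genericPoint_asIdeal hV hg
  have hker : RingHom.ker (algebraMap Γ(Y, V) Γ(X, U)) = ⊥ := by
    have h := Ideal.over_def (hU.primeIdealOf ⟨genericPoint ↥X, hxU⟩).asIdeal
      (hV.primeIdealOf ⟨f (genericPoint ↥X), hUV hxU⟩).asIdeal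
    rw [hp, hq] at h
    rw [RingHom.ker_eq_comap_bot]
    exact h.symm
  haveI : FaithfulSMul Γ(Y, V) Γ(X, U) := (faithfulSMul_iff_algebraMap_injective _ _).2
    ((RingHom.injective_iff_ker_eq_bot _).2 hker)
  haveI : (⊥ : Ideal Γ(X, U)).LiesOver (⊥ : Ideal Γ(Y, V)) :=
    ⟨((RingHom.ker_eq_comap_bot _).symm.trans hker).symm⟩
  have hT : Algebra.trdeg Γ(Y, V) Γ(X, U) = n := by
    rw [← hn, ← trdeg_residueField_eq f hV hU hUV hxU,
      trdeg_quot_congr (p' := (⊥ : Ideal Γ(Y, V))) (q' := (⊥ : Ideal Γ(X, U))) hq]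
    exact (trdeg_congr (RingEquiv.quotientBot _) (RingEquiv.quotientBot _) fun x => by
      obtain ⟨a, rfl⟩ := Ideal.Quotient.mk_surjective x
      rfl).symm
  obtain ⟨q, hqp, hqb, hqh⟩ := exists_prime_over_bot_height n hT
  let c : PrimeSpectrum Γ(X, U) := ⟨q, hqp⟩
  have hcU : hU.fromSpec c ∈ U := by
    have h : hU.fromSpec c ∈ Set.range hU.fromSpec := ⟨c, rfl⟩
    rwa [hU.range_fromSpec] at h
  have hc : hU.primeIdealOf ⟨hU.fromSpec c, hcU⟩ = c :=
    hU.fromSpec.isOpenEmbedding.injective (hU.fromSpec_primeIdealOf _)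
  refine ⟨hU.fromSpec c, ?_, ?_⟩
  · haveI := liesOver_primeIdealOf f hV hU hUV hcU
    have h := Ideal.over_def (hU.primeIdealOf ⟨hU.fromSpec c, hcU⟩).asIdeal
      (hV.primeIdealOf ⟨f (hU.fromSpec c), hUV hcU⟩).asIdeal
    rw [hc] at h
    have he : hV.primeIdealOf ⟨f (hU.fromSpec c), hUV hcU⟩ =
        hV.primeIdealOf ⟨f (genericPoint ↥X), hUV hxU⟩ :=
      PrimeSpectrum.ext ((h.trans hqb).trans hp.symm)
    have h2 := congr_arg hV.fromSpec he
    rw [hV.fromSpec_primeIdealOf, hV.fromSpec_primeIdealOf] at h2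
    exact h2.trans (base_genericPoint f)
  · rw [ringKrullDim_stalk_eq_height hU hcU, hc]
    exact_mod_cast hqh

theorem add_le_topologicalKrullDim [IsDominant f] [LocallyOfFiniteType f] (n : ℕ)
    (hn : letI := (f.residueFieldMap (genericPoint ↥X)).hom.toAlgebra
      Algebra.trdeg (Y.residueField (f.base (genericPoint ↥X))) (X.residueField (genericPoint ↥X)) = n)
    (hf : IsClosedMap f.base) :
    topologicalKrullDim ↥Y + n ≤ topologicalKrullDim ↥X := by
  obtain ⟨x, hx, hdim⟩ := exists_stalk_dim_eq f n hn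
  rw [ringKrullDim_stalk_eq_coheight] at hdim
  rw [show topologicalKrullDim ↥X = Order.krullDim ↥X from
      Order.krullDim_eq_of_orderIso irreducibleSetEquivPoints,
    show topologicalKrullDim ↥Y = Order.krullDim ↥Y from
      Order.krullDim_eq_of_orderIso irreducibleSetEquivPoints,
    Order.krullDim_eq_iSup_height_add_coheight_of_nonempty (α := ↥X),
    Order.krullDim_eq_iSup_height_of_nonempty (α := ↥Y)]
  have hY : (⨆ y : Y, Order.height y) ≤ Order.height x := by
    refine iSup_le fun y => (Order.height_mono (show y ≤ f.base x from ?_)).trans ?_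
    · show f.base x ⤳ y
      rw [hx]
      exact genericPoint_specializes y
    · refine Order.height_le_iff'.2 fun l hl => ?_
      exact @DimLift.le_height_of_downLift ↥X ↥Y (specializationOrder ↥X) _ f.base (fun x a h => by
        obtain ⟨a', h1, h2⟩ := hf.specializingMap (show f.base x ⤳ a from h)
        exact ⟨a', (h1 : x ⤳ a'), h2⟩) l.length l x rfl hl
  have hco : Order.coheight x = n := by exact_mod_cast hdim
  have h2 : (⨆ y : Y, Order.height y) + n ≤ ⨆ a : X, Order.height a + Order.coheight a :=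
    le_trans (hco ▸ add_le_add hY le_rfl) (le_iSup (fun a : X => Order.height a + Order.coheight a) x)
  exact_mod_cast h2

theorem closure_singleton_eq_genericPoint {ξ : X} (h : closure {ξ} ∈ irreducibleComponents ↥X) :
    ξ = genericPoint ↥X := by
  refine IsGenericPoint.eq ?_ (genericPoint_spec X)
  exact Set.eq_univ_of_univ_subset (h.2 (IrreducibleSpace.isIrreducible_univ _) (Set.subset_univ _))

end Groth.Agent.DimIneq
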